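import Mathlib.AlgebraicTopology.SimplicialSet.KanComplex
import Mathlib.Algebra.Category.Grp.Basic
import Mathlib.CategoryTheory.Whiskering
import Mathlib.Tactic

/-!
Moore's horn filling in simplicial groups.
-/

set_option autoImplicit false
universe u

open CategoryTheory Simplicial Opposite

namespace Groth.Agent.SimpGrp

variable {X Y : SimplicialObject GrpCat.{u}}

/-- Horn filling inside a family of subgroups stable under faces and degeneracies. -/
theorem exists_filler {m : ℕ} (i : Fin (m + 3)) (S : Subgroup (X _⦋m + 2⦌))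
    (S' : Subgroup (X _⦋m + 1⦌)) (hσ : ∀ a z, z ∈ S' → X.σ a z ∈ S)
    (hδ : ∀ b z, z ∈ S → X.δ b z ∈ S') (x : Fin (m + 3) → X _⦋m + 1⦌)
    (hxS : ∀ j, j ≠ i → x j ∈ S')
    (hx : ∀ a b : Fin (m + 2), a ≤ b → a.castSucc ≠ i → b.succ ≠ i →
      X.δ b (x a.castSucc) = X.δ a (x b.succ)) :
    ∃ w ∈ S, ∀ j, j ≠ i → X.δ j w = x j := by
  have hδδ : ∀ (a b : Fin (m + 2)), a ≤ b → ∀ z : X _⦋m + 2⦌,
      X.δ a (X.δ b.succ z) = X.δ b (X.δ a.castSucc z) := fun a b h z =>
    congr($(X.δ_comp_δ h) z)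
  have low : ∀ k : Fin (m + 3), k ≤ i → ∃ w ∈ S, ∀ l < k, X.δ l w = x l := by
    intro k
    induction k using Fin.induction with
    | zero => exact fun _ => ⟨1, one_mem _, fun l hl => absurd hl (Fin.not_lt_zero l)⟩
    | succ t ih =>
      intro hk
      have ht : t.castSucc < i := Fin.castSucc_lt_succ.trans_le hk
      obtain ⟨w, hwS, hw⟩ := ih ht.le
      refine ⟨w * X.σ t ((X.δ t.castSucc w)⁻¹ * x t.castSucc),
        mul_mem hwS (hσ _ _ (mul_mem (inv_mem (hδ _ _ hwS)) (hxS _ ht.ne))), fun l hl => ?_⟩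
      rw [map_mul]
      rcases (Fin.le_castSucc_iff.2 hl).lt_or_eq with hl' | rfl
      · obtain ⟨a, rfl⟩ := Fin.eq_castSucc_of_ne_last (Fin.ne_last_of_lt hl')
        have hat : a < t := hl'
        obtain ⟨b, rfl⟩ := Fin.eq_succ_of_ne_zero (Fin.ne_zero_of_lt hat)
        have hab : a ≤ b.castSucc := Fin.le_castSucc_iff.2 hat
        rw [show X.δ a.castSucc (X.σ b.succ _) = X.σ b (X.δ a _) from
          congr($(X.δ_comp_σ_of_le hab) _)]
        have e1 : X.δ a (X.δ b.succ.castSucc w) = X.δ b.castSucc (X.δ a.castSucc w) := by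
          rw [show b.succ.castSucc = b.castSucc.succ from rfl]
          exact hδδ a b.castSucc hab w
        have e2 : X.δ a (x b.succ.castSucc) = X.δ b.castSucc (x a.castSucc) :=
          (hx a b.castSucc hab (hl'.trans ht).ne ht.ne).symm
        rw [map_mul (X.δ a).hom, map_inv, e1, e2, hw _ hl', inv_mul_cancel, map_one, mul_one]
      · rw [show X.δ t.castSucc (X.σ t _) = _ from congr($(X.δ_comp_σ_self (i := t)) _)]
        exact mul_inv_cancel_left _ _
  have high : ∀ k : Fin (m + 3), i ≤ k →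
      ∃ w ∈ S, ∀ l, l < i ∨ k < l → X.δ l w = x l := by
    intro k
    induction k using Fin.reverseInduction with
    | last =>
      intro _
      obtain ⟨w, hwS, hw⟩ := low i le_rfl
      refine ⟨w, hwS, fun l hl => hw l ?_⟩
      rcases hl with hl | hl
      · exact hl
      · exact absurd hl (Fin.le_last _).not_gt
    | cast t ih =>
      intro hk
      have ht : i < t.succ := hk.trans_lt Fin.castSucc_lt_succ
      obtain ⟨w, hwS, hw⟩ := ih ht.le
      refine ⟨w * X.σ t ((X.δ t.succ w)⁻¹ * x t.succ),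
        mul_mem hwS (hσ _ _ (mul_mem (inv_mem (hδ _ _ hwS)) (hxS _ ht.ne'))), fun l hl => ?_⟩
      rw [map_mul]
      rcases hl with hl | hl
      · obtain ⟨a, rfl⟩ := Fin.eq_castSucc_of_ne_last (Fin.ne_last_of_lt hl)
        have hat : a < t := Fin.castSucc_lt_castSucc_iff.1 (hl.trans_le hk)
        obtain ⟨b, rfl⟩ := Fin.eq_succ_of_ne_zero (Fin.ne_zero_of_lt hat)
        have hab : a ≤ b.castSucc := Fin.le_castSucc_iff.2 hat
        rw [show X.δ a.castSucc (X.σ b.succ _) = X.σ b (X.δ a _) from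
          congr($(X.δ_comp_σ_of_le hab) _)]
        rw [map_mul (X.δ a).hom, map_inv, hδδ a b.succ hat.le, ← hx a b.succ hat.le hl.ne ht.ne',
          hw _ (Or.inl hl), inv_mul_cancel, map_one, mul_one]
      · rcases (Fin.castSucc_lt_iff_succ_le.1 hl).lt_or_eq with hl' | rfl
        · obtain ⟨a, rfl⟩ := Fin.eq_succ_of_ne_zero (Fin.ne_zero_of_lt hl')
          have hta : t < a := Fin.succ_lt_succ_iff.1 hl'
          obtain ⟨b, rfl⟩ := Fin.eq_castSucc_of_ne_last (Fin.ne_last_of_lt hta)
          rw [show X.δ a.succ (X.σ b.castSucc _) = X.σ b (X.δ a _) from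
            congr($(X.δ_comp_σ_of_gt hta) _)]
          have hba : b.succ ≤ a := Fin.castSucc_lt_iff_succ_le.1 hta
          have e1 : X.δ a (X.δ b.castSucc.succ w) = X.δ b.succ (X.δ a.succ w) := by
            rw [show b.castSucc.succ = b.succ.castSucc from rfl]
            exact (hδδ b.succ a hba w).symm
          have e2 : X.δ a (x b.castSucc.succ) = X.δ b.succ (x a.succ) := by
            rw [show b.castSucc.succ = b.succ.castSucc from rfl]
            exact hx b.succ a hba ht.ne' (ht.trans hl').ne'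
          rw [map_mul (X.δ a).hom, map_inv, e1, e2, hw _ (Or.inr hl'), inv_mul_cancel, map_one,
            mul_one]
        · rw [show X.δ t.succ (X.σ t _) = _ from congr($(X.δ_comp_σ_succ (i := t)) _)]
          exact mul_inv_cancel_left _ _
  obtain ⟨w, hwS, hw⟩ := high i le_rfl
  exact ⟨w, hwS, fun j hj => hw j (lt_or_gt_of_ne hj)⟩

/-- Every degreewise surjective homomorphism of simplicial groups is a Kan fibration. -/
theorem rlp {G H : SimplicialObject GrpCat.{u}} (f : G ⟶ H) (hf : ∀ n, Function.Surjective (f.app n)) :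
    SSet.modelCategoryQuillen.J.rlp (Functor.whiskerRight f (forget GrpCat.{u})) := by
  intro P Q e h
  simp only [SSet.modelCategoryQuillen.J, MorphismProperty.iSup_iff] at h
  obtain ⟨n, ⟨i⟩⟩ := h
  refine ⟨fun {top bot} sq => ?_⟩
  let x : ∀ j, j ≠ i → G _⦋n⦌ := fun j hj =>
    SSet.yonedaEquiv (SSet.horn.ι i j hj ≫ top)
  obtain ⟨w₀, hw₀⟩ := hf (op ⦋n + 1⦌) (SSet.yonedaEquiv bot)
  have hδf : ∀ {k} (j : Fin (k + 2)) z, f.app _ (G.δ j z) = H.δ j (f.app _ z) := fun j z =>
    congr($(f.naturality (SimplexCategory.δ j).op) z)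
  have hσf : ∀ {k} (j : Fin (k + 1)) z, f.app _ (G.σ j z) = H.σ j (f.app _ z) := fun j z =>
    congr($(f.naturality (SimplexCategory.σ j).op) z)
  have hfx : ∀ j hj, f.app _ (x j hj) = f.app _ (G.δ j w₀) := fun j hj => by
    rw [hδf, hw₀]
    have h := congrArg (fun g => SSet.yonedaEquiv (SSet.horn.ι i j hj ≫ g)) sq.w
    rw [SSet.horn.ι_ι_assoc] at h
    exact h.trans (SSet.yonedaEquiv_naturality (SimplexCategory.δ j) bot).symm
  suffices ∃ w, f.app _ w = f.app _ w₀ ∧ ∀ j hj, G.δ j w = x j hj by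
    obtain ⟨w, hw, hwx⟩ := this
    refine ⟨⟨{
      l := SSet.yonedaEquiv.symm w
      fac_left := SSet.horn.hom_ext' fun j hj => ?_
      fac_right := ?_ }⟩⟩
    · rw [SSet.horn.ι_ι_assoc]
      apply SSet.yonedaEquiv.injective
      refine (SSet.yonedaEquiv_naturality (SimplexCategory.δ j) _).symm.trans ?_
      rw [Equiv.apply_symm_apply]
      exact hwx j hj
    · apply SSet.yonedaEquiv.injective
      refine Eq.trans ?_ (hw.trans hw₀)
      exact (SSet.yonedaEquiv_comp _ _).trans (congrArg _ (Equiv.apply_symm_apply _ _))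
  obtain _ | m := n
  · obtain ⟨j, hj, huniq⟩ : ∃ j : Fin 2, j ≠ i ∧ ∀ l, l ≠ i → l = j :=
      ⟨i.rev, by fin_cases i <;> decide, by fin_cases i <;> decide⟩
    refine ⟨w₀ * G.σ 0 ((G.δ j w₀)⁻¹ * x j hj), ?_, fun l hl => ?_⟩
    · rw [map_mul, hσf, map_mul, map_inv, hfx, inv_mul_cancel, map_one, mul_one]
    · obtain rfl := huniq l hl
      rw [map_mul]
      have : ∀ z, G.δ l (G.σ 0 z) = z := fun z => by
        fin_cases l
        · exact congr($(G.δ_comp_σ_self (i := (0 : Fin 1))) z)
        · exact congr($(G.δ_comp_σ_succ (i := (0 : Fin 1))) z)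
      rw [this, mul_inv_cancel_left]
  · let x' : Fin (m + 3) → G _⦋m + 1⦌ := fun j =>
      if hj : j = i then 1 else (G.δ j w₀)⁻¹ * x j hj
    obtain ⟨w, hwS, hw⟩ := exists_filler i (f.app (op ⦋m + 2⦌)).hom.ker
      (f.app (op ⦋m + 1⦌)).hom.ker
      (fun a z hz => by
        rw [MonoidHom.mem_ker] at hz ⊢
        exact (hσf a z).trans ((congrArg (H.σ a).hom hz).trans (map_one _)))
      (fun b z hz => by
        rw [MonoidHom.mem_ker] at hz ⊢
        exact (hδf b z).trans ((congrArg (H.δ b).hom hz).trans (map_one _)))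
      x'
      (fun j hj => by
        rw [MonoidHom.mem_ker]
        simp only [x', dif_neg hj]
        rw [map_mul, map_inv]
        erw [hfx j hj]
        exact inv_mul_cancel _)
      (fun a b hab ha hb => by
        have hlt : a.castSucc < b.succ := Fin.castSucc_lt_succ_iff.2 hab
        have h := SSet.horn.IsCompatible.of_hom top a.castSucc b.succ ha hb hlt
        have hc := congrArg SSet.yonedaEquiv h
        simp only [Fin.pred_succ, Fin.castPred_castSucc] at hc
        have hc' : G.δ b (x _ ha) = G.δ a (x _ hb) :=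
          ((SSet.yonedaEquiv_naturality (SimplexCategory.δ b) _).trans hc).trans
            (SSet.yonedaEquiv_naturality (SimplexCategory.δ a) _).symm
        have hw0 : G.δ b (G.δ a.castSucc w₀) = G.δ a (G.δ b.succ w₀) :=
          (congr($(G.δ_comp_δ hab) w₀)).symm
        simp only [x', dif_neg ha, dif_neg hb]
        rw [map_mul, map_mul, map_inv, map_inv, hw0, hc'])
    refine ⟨w₀ * w, ?_, fun j hj => ?_⟩
    · rw [map_mul, (MonoidHom.mem_ker.1 hwS : f.app _ w = 1), mul_one]
    · rw [map_mul, hw j hj]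
      simp only [x', dif_neg hj]
      rw [mul_inv_cancel_left]

end Groth.Agent.SimpGrp
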