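import Groth.Agent.SimpGrp.Kan
import Mathlib.Algebra.Category.Grp.EquivalenceGroupAddGroup
import Mathlib.Algebra.Category.Grp.Abelian
import Mathlib.Algebra.Category.Grp.EpiMono
import Mathlib.Algebra.Category.Grp.Preadditive
import Mathlib.Algebra.Category.Grp.Limits
import Mathlib.AlgebraicTopology.DoldKan.PInfty
import Mathlib.AlgebraicTopology.AlternatingFaceMapComplex
import Mathlib.Algebra.Homology.HomologySequenceLemmas
import Mathlib.Algebra.Homology.ShortComplex.Ab
import Mathlib.Algebra.Homology.HomologicalComplexAbelian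
import Mathlib.AlgebraicTopology.SimplicialSet.Boundary

/-!
# Surjective quasi-isomorphisms of simplicial abelian groups are trivial Kan fibrations
-/

set_option autoImplicit false
set_option linter.style.haveILetI false
set_option backward.isDefEq.respectTransparency false
set_option backward.isDefEq.respectTransparency.types false
universe u

open CategoryTheory CategoryTheory.Limits Simplicial Opposite AlgebraicTopology

namespace Groth.Agent.SimpGrp

variable {A B : SimplicialObject AddCommGrpCat.{u}} (f : A ⟶ B)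

lemma δ_app {k : ℕ} (j : Fin (k + 2)) (z : A _⦋k + 1⦌) : f.app _ (A.δ j z) = B.δ j (f.app _ z) :=
  congr($(f.naturality (SimplexCategory.δ j).op) z)

lemma δ_δ {k : ℕ} {a b : Fin (k + 2)} (h : a ≤ b) (z : A _⦋k + 2⦌) :
    A.δ a (A.δ b.succ z) = A.δ b (A.δ a.castSucc z) :=
  congr($(A.δ_comp_δ h) z)

variable (hf : ∀ n : SimplexCategoryᵒᵖ, Function.Surjective (f.app n))
  (hq : QuasiIso ((alternatingFaceMapComplex AddCommGrpCat.{u}).map f))

/-- The differential on an element with vanishing higher faces. -/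
lemma d_eq_δ_zero {m : ℕ} (z : A _⦋m + 1⦌) (hz : ∀ i : Fin (m + 1), A.δ i.succ z = 0) :
    ((alternatingFaceMapComplex AddCommGrpCat.{u}).obj A).d (m + 1) m z = A.δ 0 z := by
  rw [alternatingFaceMapComplex_obj_d, AlternatingFaceMapComplex.objD]
  change (AddCommGrpCat.Hom.hom (∑ i : Fin (m + 2), (-1 : ℤ) ^ (i : ℕ) • A.δ i : A _⦋m + 1⦌ ⟶ A _⦋m⦌)) z = _
  let E : (A _⦋m + 1⦌ ⟶ A _⦋m⦌) →+ A _⦋m⦌ := AddMonoidHom.mk' (fun φ => φ z) (fun _ _ => rfl)
  show E (∑ i : Fin (m + 2), (-1 : ℤ) ^ (i : ℕ) • A.δ i) = _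
  rw [map_sum, Fin.sum_univ_succ]
  have h0 : ∀ i : Fin (m + 1), E (A.δ i.succ) = 0 := hz
  simp only [map_zsmul, h0, smul_zero, Finset.sum_const_zero, add_zero, Fin.val_zero, pow_zero, one_smul]
  rfl

/-- An element with vanishing higher faces is fixed by `PInfty`. -/
lemma PInfty_eq_self {m : ℕ} (z : A _⦋m + 1⦌) (hz : ∀ i : Fin (m + 1), A.δ i.succ z = 0) :
    (DoldKan.PInfty.f (m + 1) : A _⦋m + 1⦌ ⟶ A _⦋m + 1⦌) z = z := by
  let φ : AddCommGrpCat.of (ULift.{u} ℤ) ⟶ A _⦋m + 1⦌ :=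
    AddCommGrpCat.ofHom (((zmultiplesHom _) z).comp AddEquiv.ulift.toAddMonoidHom)
  have hv : DoldKan.HigherFacesVanish (m + 1) φ := fun j _ => by
    apply AddCommGrpCat.ext
    intro n
    show A.δ j.succ (n.down • z) = 0
    rw [map_zsmul, hz, smul_zero]
  have h := congr($(hv.comp_P_eq_self) (ULift.up (1 : ℤ)))
  simpa [φ, AddEquiv.ulift, DoldKan.PInfty_f] using h

lemma PInfty_faces {m : ℕ} (v : A _⦋m + 1⦌) (i : Fin (m + 1)) :
    A.δ i.succ ((DoldKan.PInfty.f (m + 1) : A _⦋m + 1⦌ ⟶ A _⦋m + 1⦌) v) = 0 :=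
  ConcreteCategory.congr_hom ((DoldKan.HigherFacesVanish.of_P (X := A) (m + 1) m) i (by omega)) v

include hf hq in
/-- A cycle in the kernel is a face of an element of the kernel with vanishing higher faces. -/
lemma exists_fill (n : ℕ) (e : A _⦋n⦌) (he : f.app _ e = 0)
    (hcyc : ∀ m (hm : n = m + 1), ∀ i : Fin (m + 2), A.δ i (hm ▸ e) = 0) :
    ∃ w : A _⦋n + 1⦌, f.app _ w = 0 ∧ A.δ 0 w = e ∧ ∀ i : Fin (n + 1), A.δ i.succ w = 0 := by
  let φ := (alternatingFaceMapComplex AddCommGrpCat.{u}).map f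
  haveI : ∀ k, Epi (φ.f k) := fun k => (AddCommGrpCat.epi_iff_surjective _).2 (hf (op ⦋k⦌))
  haveI : Epi φ := HomologicalComplex.epi_of_epi_f φ inferInstance
  let S := ShortComplex.mk (kernel.ι φ) φ (kernel.condition φ)
  have hS : S.ShortExact :=
    { exact := ShortComplex.exact_of_f_is_kernel _ (kernelIsKernel φ)
      mono_f := inferInstanceAs (Mono (kernel.ι φ))
      epi_g := inferInstanceAs (Epi φ) }
  have hac := hS.acyclic_X₁ hq
  have hev : ∀ k, (S.map (HomologicalComplex.eval AddCommGrpCat.{u} _ k)).ShortExact := fun k =>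
    hS.map_of_exact _
  have hinj : ∀ k, Function.Injective ((kernel.ι φ).f k) := fun k =>
    (AddCommGrpCat.mono_iff_injective _).1 (hev k).mono_f
  obtain ⟨e', he'⟩ := (ShortComplex.ab_exact_iff _).1 (hev n).exact e he
  have hd : ((alternatingFaceMapComplex AddCommGrpCat.{u}).obj A).d n ((ComplexShape.down ℕ).next n) e = 0 := by
    cases n with
    | zero => rw [HomologicalComplex.shape _ _ _ (by simp)]; rfl
    | succ m =>
      rw [show (ComplexShape.down ℕ).next (m + 1) = m by simp]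
      refine (d_eq_δ_zero e fun i => hcyc m rfl i.succ).trans (hcyc m rfl 0)
  have hd' : (kernel φ).d n ((ComplexShape.down ℕ).next n) e' = 0 := by
    apply hinj
    rw [map_zero]
    refine Eq.trans ?_ hd
    rw [← he']
    exact ConcreteCategory.congr_hom ((kernel.ι φ).comm n _).symm e'
  have hex := (HomologicalComplex.exactAt_iff' _ (n + 1) n ((ComplexShape.down ℕ).next n) (by simp) rfl).1 (hac n)
  obtain ⟨v', hv'⟩ := (ShortComplex.ab_exact_iff _).1 hex e' hd'
  let v : A _⦋n + 1⦌ := (kernel.ι φ).f (n + 1) v'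
  have hv : ((alternatingFaceMapComplex AddCommGrpCat.{u}).obj A).d (n + 1) n v = e := by
    rw [← he', ← hv']
    exact congr($((kernel.ι φ).comm (n + 1) n) v')
  have hfv : f.app (op ⦋n + 1⦌) v = 0 := by
    exact congr($(HomologicalComplex.congr_hom (kernel.condition φ) (n + 1)) v')
  let w : A _⦋n + 1⦌ := (DoldKan.PInfty.f (n + 1) : A _⦋n + 1⦌ ⟶ A _⦋n + 1⦌) v
  refine ⟨w, ?_, ?_, PInfty_faces v⟩
  · refine (congr($(DoldKan.PInfty_f_naturality (n + 1) f) v)).symm.trans ?_
    show (DoldKan.PInfty.f (n + 1) : B _⦋n + 1⦌ ⟶ B _⦋n + 1⦌) (f.app (op ⦋n + 1⦌) v) = 0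
    rw [hfv, map_zero]
  · rw [← d_eq_δ_zero w (PInfty_faces v)]
    refine (congr($((DoldKan.PInfty (X := A)).comm (n + 1) n) v)).trans ?_
    refine (congrArg _ hv).trans ?_
    cases n with
    | zero =>
      exact congr($(DoldKan.PInfty_f_0 (X := A)) e)
    | succ m => exact PInfty_eq_self e fun i => hcyc m rfl i.succ

include hf hq in
/-- Every compatible boundary over a simplex has a filler. -/
lemma exists_boundary_filler : ∀ (n : ℕ) (s : Fin (n + 2) → A _⦋n⦌) (y : B _⦋n + 1⦌),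
    (∀ m (hm : n = m + 1), ∀ a b : Fin (m + 2), a ≤ b →
      A.δ a (hm ▸ s ((hm ▸ b.succ : Fin (n + 2)))) = A.δ b (hm ▸ s ((hm ▸ a.castSucc : Fin (n + 2))))) →
    (∀ j, f.app _ (s j) = B.δ j y) → ∃ x : A _⦋n + 1⦌, f.app _ x = y ∧ ∀ j, A.δ j x = s j := by
  intro n s y hs hy
  obtain ⟨x₀, hx₀⟩ := hf (op ⦋n + 1⦌) y
  let t : Fin (n + 2) → A _⦋n⦌ := fun j => s j - A.δ j x₀
  have ht : ∀ j, f.app _ (t j) = 0 := fun j => by
    simp only [t]
    rw [map_sub, hy, δ_app, hx₀, sub_self]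
  suffices h : ∃ w : A _⦋n + 1⦌, f.app _ w = 0 ∧ ∀ j, A.δ j w = t j by
    obtain ⟨w, hw, hwt⟩ := h
    exact ⟨x₀ + w, by rw [map_add, hx₀, hw, add_zero], fun j => by
      rw [map_add, hwt]
      simp only [t]
      abel⟩
  cases n with
  | zero =>
    let w₁ : A _⦋1⦌ := A.σ 0 (t 1)
    have h1 : A.δ 1 w₁ = t 1 := congr($(A.δ_comp_σ_succ (i := (0 : Fin 1))) (t 1))
    have h0 : A.δ 0 w₁ = t 1 := congr($(A.δ_comp_σ_self (i := (0 : Fin 1))) (t 1))
    obtain ⟨w, hw, hw0, hwi⟩ := exists_fill f hf hq 0 (t 0 - t 1) (by rw [map_sub, ht, ht, sub_zero])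
      (fun m hm => absurd hm (by omega))
    refine ⟨w₁ + w, ?_, fun j => ?_⟩
    · rw [map_add, hw, add_zero]
      exact (congr($(f.naturality (SimplexCategory.σ (0 : Fin 1)).op) (t 1))).trans ((congrArg (B.σ 0).hom (ht 1)).trans (map_zero (B.σ 0).hom))
    · rw [map_add]
      fin_cases j
      · show A.δ 0 w₁ + A.δ 0 w = t 0
        rw [h0, hw0]
        abel
      · show A.δ 1 w₁ + A.δ 1 w = t 1
        rw [h1, show A.δ 1 w = 0 from hwi 0, add_zero]
  | succ m =>
    have hc : ∀ a b : Fin (m + 2), a ≤ b → A.δ a (t b.succ) = A.δ b (t a.castSucc) := fun a b hab => by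
      simp only [t]
      rw [map_sub, map_sub, δ_δ hab, hs m rfl a b hab]
    let G : SimplicialObject GrpCat.{u} := A ⋙ forget₂ AddCommGrpCat.{u} AddGrpCat.{u} ⋙ AddGrpCat.toGrp
    let K : ∀ k : ℕ, Subgroup (G _⦋k⦌) := fun k =>
      { carrier := {z | f.app (op ⦋k⦌) (Multiplicative.toAdd (α := A _⦋k⦌) z) = 0}
        one_mem' := map_zero (f.app (op ⦋k⦌)).hom
        mul_mem' := fun {a b} ha hb => (map_add (f.app (op ⦋k⦌)).hom (Multiplicative.toAdd (α := A _⦋k⦌) a) (Multiplicative.toAdd (α := A _⦋k⦌) b)).trans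
          ((congrArg₂ (· + ·) ha hb).trans (add_zero _))
        inv_mem' := fun {a} ha => (map_neg (f.app (op ⦋k⦌)).hom (Multiplicative.toAdd (α := A _⦋k⦌) a)).trans
          ((congrArg Neg.neg ha).trans neg_zero) }
    obtain ⟨w₁, hw₁S, hw₁⟩ := exists_filler (X := G) (0 : Fin (m + 3)) (K (m + 2)) (K (m + 1))
      (fun a z hz => (congr($(f.naturality (SimplexCategory.σ a).op) (Multiplicative.toAdd z))).trans
        ((congrArg (B.σ a).hom hz).trans (map_zero (B.σ a).hom)))
      (fun b z hz => (δ_app f b (Multiplicative.toAdd z)).trans ((congrArg _ hz).trans (map_zero _)))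
      (fun j => Multiplicative.ofAdd (t j)) (fun j _ => ht j) (fun a b hab _ _ => (hc a b hab).symm)
    let w₁' : A _⦋m + 2⦌ := Multiplicative.toAdd w₁
    have hw₁' : ∀ j, j ≠ 0 → A.δ j w₁' = t j := hw₁
    have hfw : f.app _ w₁' = 0 := hw₁S
    obtain ⟨w, hw, hw0, hwi⟩ := exists_fill f hf hq (m + 1) (t 0 - A.δ 0 w₁')
      (by rw [map_sub, ht, δ_app, hfw, map_zero, sub_zero])
      (fun m' hm' i => by
        obtain rfl : m = m' := by omega
        show A.δ i (t 0 - A.δ 0 w₁') = 0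
        rw [map_sub, show (0 : Fin (m + 3)) = (0 : Fin (m + 2)).castSucc from rfl,
          ← hc 0 i (Fin.zero_le _), ← δ_δ (Fin.zero_le i) w₁', hw₁' i.succ (Fin.succ_ne_zero _), sub_self])
    refine ⟨w₁' + w, by rw [map_add, hfw, hw, add_zero], fun j => ?_⟩
    rw [map_add]
    cases j using Fin.cases with
    | zero => rw [hw0]; abel
    | succ i => rw [hwi, add_zero, hw₁' _ (Fin.succ_ne_zero _)]

include hf hq in
/-- Trivial Kan fibration. -/
theorem rlp_trivial : SSet.modelCategoryQuillen.I.rlp (X := A ⋙ forget AddCommGrpCat.{u})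
    (Y := B ⋙ forget AddCommGrpCat.{u}) (Functor.whiskerRight f (forget AddCommGrpCat.{u})) := by
  intro P Q e he
  obtain ⟨k⟩ := he
  refine ⟨fun {top bot} sq => ?_⟩
  cases k with
  | zero =>
    obtain ⟨x, hx⟩ := hf (op ⦋0⦌) (SSet.yonedaEquiv bot)
    refine ⟨⟨{ l := SSet.yonedaEquiv.symm x, fac_left := ?_, fac_right := ?_ }⟩⟩
    · ext
    · apply SSet.yonedaEquiv.injective
      exact ((SSet.yonedaEquiv_comp _ _).trans (congrArg _ (Equiv.apply_symm_apply _ _))).trans hx
  | succ n =>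
    let s : Fin (n + 2) → A _⦋n⦌ := fun j =>
      SSet.yonedaEquiv (X := A ⋙ forget AddCommGrpCat.{u}) (SSet.boundary.ι j ≫ top)
    obtain ⟨x, hx, hxs⟩ := exists_boundary_filler f hf hq n s (SSet.yonedaEquiv bot) (fun m hm a b hab => by
      subst hm
      show (A ⋙ forget AddCommGrpCat.{u}).map (SimplexCategory.δ a).op
          (SSet.yonedaEquiv (X := A ⋙ forget AddCommGrpCat.{u}) _) =
        (A ⋙ forget AddCommGrpCat.{u}).map (SimplexCategory.δ b).op
          (SSet.yonedaEquiv (X := A ⋙ forget AddCommGrpCat.{u}) _)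
      refine (SSet.yonedaEquiv_naturality (SimplexCategory.δ a) _).trans (Eq.trans ?_
        (SSet.yonedaEquiv_naturality (SimplexCategory.δ b) _).symm)
      refine congrArg SSet.yonedaEquiv ?_
      have hι : SSet.stdSimplex.{u}.map (SimplexCategory.δ a) ≫ SSet.boundary.ι b.succ =
          SSet.stdSimplex.{u}.map (SimplexCategory.δ b) ≫ SSet.boundary.ι a.castSucc := by
        rw [← cancel_mono (SSet.boundary.{u} (m + 1 + 1)).ι, Category.assoc, Category.assoc, SSet.boundary.ι_ι,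
          SSet.boundary.ι_ι]
        show SSet.stdSimplex.map _ ≫ SSet.stdSimplex.map _ = SSet.stdSimplex.map _ ≫ SSet.stdSimplex.map _
        rw [← Functor.map_comp, ← Functor.map_comp, SimplexCategory.δ_comp_δ hab]
      rw [← Category.assoc, ← Category.assoc, hι]) (fun j => by
      show (Functor.whiskerRight f (forget AddCommGrpCat.{u})).app (op ⦋n⦌)
          (SSet.yonedaEquiv (X := A ⋙ forget AddCommGrpCat.{u}) _) =
        (B ⋙ forget AddCommGrpCat.{u}).map (SimplexCategory.δ j).op (SSet.yonedaEquiv bot)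
      refine ((SSet.yonedaEquiv_comp _ _).symm.trans (congrArg SSet.yonedaEquiv ?_)).trans
        (SSet.yonedaEquiv_naturality (SimplexCategory.δ j) bot).symm
      rw [Category.assoc, sq.w, SSet.boundary.ι_ι_assoc]
      rfl)
    refine ⟨⟨{ l := SSet.yonedaEquiv.symm x, fac_left := SSet.boundary.hom_ext fun j => ?_, fac_right := ?_ }⟩⟩
    · apply SSet.yonedaEquiv.injective
      rw [SSet.boundary.ι_ι_assoc]
      refine (SSet.yonedaEquiv_naturality (SimplexCategory.δ j) _).symm.trans ?_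
      rw [Equiv.apply_symm_apply]
      exact hxs j
    · apply SSet.yonedaEquiv.injective
      exact ((SSet.yonedaEquiv_comp _ _).trans (congrArg _ (Equiv.apply_symm_apply _ _))).trans hx

end Groth.Agent.SimpGrp
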